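import Mathlib
import Cfsg.Agent.Lib.Helper17.R3.Defs

/-!
# R3 (S1788), package [PSP]: `PSp_{2m}(F)` in characteristic 2 has 2-rank at least 3

The matrices `[1 D; 0 1]` with `D` diagonal are symplectic, commute, square to `1` in
characteristic 2, and `[1 D; 0 1]` commutes with the symplectic matrix `[1 0; 1 1]` only if
`D = 0`; so they stay distinct modulo the centre.
-/

set_option autoImplicit false

namespace Cfsg.Agent.Lib.Helper22.R3

open Matrix Cfsg

section mats

variable {F : Type} [Field F] {m : ℕ}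

/-- the block matrix `[1 D; 0 1]`, `D` diagonal -/
def upMat (d : Fin m → F) : Matrix (Fin m ⊕ Fin m) (Fin m ⊕ Fin m) F :=
  Matrix.fromBlocks 1 (Matrix.diagonal d) 0 1

/-- the block matrix `[1 0; 1 1]` -/
def lowMat (F : Type) [Field F] (m : ℕ) : Matrix (Fin m ⊕ Fin m) (Fin m ⊕ Fin m) F :=
  Matrix.fromBlocks 1 0 1 1

theorem upMat_mem (d : Fin m → F) : upMat d ∈ Matrix.symplecticGroup (Fin m) F := by
  rw [SymplecticGroup.mem_iff]
  unfold upMat Matrix.J
  rw [Matrix.fromBlocks_transpose, Matrix.fromBlocks_multiply, Matrix.fromBlocks_multiply]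
  simp [Matrix.diagonal_transpose]

theorem lowMat_mem : lowMat F m ∈ Matrix.symplecticGroup (Fin m) F := by
  rw [SymplecticGroup.mem_iff]
  unfold lowMat Matrix.J
  rw [Matrix.fromBlocks_transpose, Matrix.fromBlocks_multiply, Matrix.fromBlocks_multiply]
  simp

theorem upMat_mul (d d' : Fin m → F) : upMat d * upMat d' = upMat (d + d') := by
  unfold upMat
  rw [Matrix.fromBlocks_multiply]
  simp [Matrix.diagonal_add, add_comm]

theorem upMat_zero : upMat (0 : Fin m → F) = 1 := by
  unfold upMat
  have h0 : Matrix.diagonal (0 : Fin m → F) = 0 := by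
    ext i j
    simp [Matrix.diagonal_apply]
  rw [h0, Matrix.fromBlocks_one]

/-- `[1 D; 0 1]` commutes with `[1 0; 1 1]` only if `D = 0` -/
theorem upMat_comm_lowMat (d : Fin m → F) (h : upMat d * lowMat F m = lowMat F m * upMat d) :
    d = 0 := by
  unfold upMat lowMat at h
  rw [Matrix.fromBlocks_multiply, Matrix.fromBlocks_multiply] at h
  have h1 := (Matrix.fromBlocks_inj.mp h).1
  simp only [Matrix.mul_one, Matrix.mul_zero, add_zero] at h1
  have h2 : Matrix.diagonal d = 0 := by
    have := h1
    rwa [add_eq_left] at this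
  funext i
  have h3 := congrFun (congrFun h2 i) i
  simpa using h3

/-- the elements of `Sp` -/
def upElt (d : Fin m → F) : Matrix.symplecticGroup (Fin m) F := ⟨upMat d, upMat_mem d⟩

/-- the test element of `Sp` -/
def lowElt (F : Type) [Field F] (m : ℕ) : Matrix.symplecticGroup (Fin m) F :=
  ⟨lowMat F m, lowMat_mem⟩

theorem upElt_mul (d d' : Fin m → F) : upElt d * upElt d' = upElt (d + d') :=
  Subtype.ext (upMat_mul d d')

theorem upElt_zero : upElt (0 : Fin m → F) = 1 := Subtype.ext upMat_zero

end mats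

/-- **[PSP]** `PSp_{2m}(F)` in characteristic 2 (`m ≥ 2`, `|F| ≥ 3` if `m = 2`) has 2-rank at
least 3. -/
theorem pkgPSp : Cfsg.Agent.Lib.Helper17.R3.PkgPSp := by
  intro F _ _ _ m hm hm2
  have h2 : ∀ d : Fin m → F, d + d = 0 := by
    intro d
    funext i
    exact CharTwo.add_self_eq_zero (d i)
  have hsq : ∀ d : Fin m → F, upElt d * upElt d = 1 := by
    intro d
    rw [upElt_mul, h2, upElt_zero]
  refine Cfsg.Agent.Lib.Helper17.R3.r3_quot
    (Subgroup.center (Matrix.symplecticGroup (Fin m) F)) (fun d : Fin m → F => upElt d)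
    ?_ hsq ?_ ?_
  · intro d d'
    show upElt d * upElt d' = upElt d' * upElt d
    rw [upElt_mul, upElt_mul, add_comm]
  · intro d d' hmem
    have hinv : (upElt d)⁻¹ = upElt d := inv_eq_of_mul_eq_one_right (hsq d)
    have hmem' : upElt (d + d') ∈ Subgroup.center (Matrix.symplecticGroup (Fin m) F) := by
      have : (upElt d)⁻¹ * upElt d' = upElt (d + d') := by rw [hinv, upElt_mul]
      rw [← this]
      exact hmem
    have hc := Subgroup.mem_center_iff.mp hmem' (lowElt F m)
    have hc' : upMat (d + d') * lowMat F m = lowMat F m * upMat (d + d') :=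
      (congrArg Subtype.val hc).symm
    have h0 := upMat_comm_lowMat _ hc'
    have : d = d + (d + d') := by rw [h0, add_zero]
    rw [this, ← add_assoc, h2, zero_add]
  · rw [Nat.card_eq_fintype_card, Fintype.card_fun, Fintype.card_fin]
    have hF2 : 2 ≤ Fintype.card F := Fintype.one_lt_card
    rcases Nat.lt_or_ge m 3 with hlt | hge
    · have hm' : m = 2 := by omega
      have hF3 := hm2 hm'
      rw [hm']
      nlinarith
    · calc 8 = 2 ^ 3 := by norm_num
        _ ≤ Fintype.card F ^ 3 := Nat.pow_le_pow_left hF2 3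
        _ ≤ Fintype.card F ^ m := Nat.pow_le_pow_right (by omega) hge

end Cfsg.Agent.Lib.Helper22.R3
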